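import Groth.Prelude.Def_W4c3cyccovratcurvTree
import Mathlib

/-!
# Conic deformations connect all marked trees with the same number of vertices

Every tree is one conic deformation away from the tree in which all other neighbours and marks of an
end `w` of an edge `u w` have been moved to `u`; iterating reaches the star with all marks at its
centre.
-/

open SimpleGraph W4c3cyccovratcurv

namespace Groth.Agent.RatCurvX

variable {n k : ℕ}

/-- Move every neighbour of `w` other than `u` over to `u`. -/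
def moved (G : SimpleGraph (Fin n)) (u w : Fin n) : SimpleGraph (Fin n) :=
  SimpleGraph.fromRel fun a b =>
    (a = w ∧ b = u) ∨ (a ≠ w ∧ b ≠ w ∧ (G.Adj a b ∨ (a = u ∧ G.Adj w b)))

theorem moved_adj {G : SimpleGraph (Fin n)} {u w a b : Fin n} :
    (moved G u w).Adj a b ↔ a ≠ b ∧ (((a = w ∧ b = u) ∨ (b = w ∧ a = u)) ∨
      (a ≠ w ∧ b ≠ w ∧ (G.Adj a b ∨ (a = u ∧ G.Adj w b) ∨ (b = u ∧ G.Adj w a)))) := by
  rw [moved, fromRel_adj, G.adj_comm b a]
  tauto

theorem moved_isTree {G : SimpleGraph (Fin n)} (hG : G.IsTree) {u w : Fin n} (h : G.Adj u w) :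
    (moved G u w).IsTree := by
  classical
  let f : Fin n → Fin n := fun v => if v = w then u else v
  have hfw : ∀ v, f v ≠ w := fun v => by
    simp only [f]; split_ifs with hv
    · exact h.ne
    · exact hv
  have huw : (moved G u w).Adj u w := moved_adj.mpr ⟨h.ne, Or.inl (Or.inr ⟨rfl, rfl⟩)⟩
  have hstep : ∀ a b, G.Adj a b → f a ≠ f b → (moved G u w).Adj (f a) (f b) := by
    intro a b hab hne
    refine moved_adj.mpr ⟨hne, Or.inr ⟨hfw a, hfw b, ?_⟩⟩
    by_cases ha : a = w
    · subst ha
      exact Or.inr (Or.inl ⟨if_pos rfl, by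
        rw [show f b = b from if_neg hab.ne.symm]; exact hab⟩)
    by_cases hb : b = w
    · subst hb
      exact Or.inr (Or.inr ⟨if_pos rfl, by
        rw [show f a = a from if_neg ha]; exact hab.symm⟩)
    exact Or.inl (by rwa [show f a = a from if_neg ha, show f b = b from if_neg hb])
  have hreach : ∀ a b, G.Reachable a b → (moved G u w).Reachable (f a) (f b) := by
    rintro a b ⟨p⟩
    induction p with
    | nil => exact .refl _
    | @cons x y z hxy _ ih =>
      by_cases he : f x = f y
      · rw [he]; exact ih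
      · exact (hstep x y hxy he).reachable.trans ih
  have hto : ∀ v, (moved G u w).Reachable v (f v) := fun v => by
    simp only [f]; split_ifs with hv
    · subst hv; exact huw.symm.reachable
    · exact .refl _
  have hconn : (moved G u w).Connected := by
    have : Nonempty (Fin n) := ⟨u⟩
    exact ⟨fun a b => (hto a).trans ((hreach a b (hG.connected a b)).trans (hto b).symm)⟩
  refine isTree_iff_connected_and_card.mpr ⟨hconn, le_antisymm ?_ hconn.card_vert_le_card_edgeSet_add_one⟩
  rw [← (isTree_iff_connected_and_card.mp hG).2, add_le_add_iff_right]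
  -- every new edge is the image of an old one
  let g : Sym2 (Fin n) → Sym2 (Fin n) := fun e =>
    if e = s(u, w) then e else e.map f
  have hsub : (moved G u w).edgeSet ⊆ g '' G.edgeSet := by
    intro e he
    induction e with
    | h a b =>
      rw [mem_edgeSet, moved_adj] at he
      obtain ⟨hne, hh⟩ := he
      rcases hh with (⟨rfl, rfl⟩ | ⟨rfl, rfl⟩) | ⟨ha, hb, hh⟩
      · exact ⟨s(b, a), h, by simp [g, Sym2.eq_swap]⟩
      · exact ⟨s(a, b), h, by simp [g]⟩
      have fix : ∀ {x : Fin n}, x ≠ w → f x = x := fun hx => if_neg hx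
      have nn : ∀ {x y : Fin n}, x ≠ w → y ≠ w → s(x, y) ≠ s(u, w) := fun {x y} hx hy hxy => by
        rcases Sym2.eq_iff.mp hxy with ⟨-, h'⟩ | ⟨h', -⟩
        · exact hy h'
        · exact hx h'
      rcases hh with hab | ⟨rfl, hwb⟩ | ⟨rfl, hwa⟩
      · exact ⟨s(a, b), hab, by
          simp only [g, if_neg (nn ha hb), Sym2.map_pair_eq, fix ha, fix hb]⟩
      · refine ⟨s(w, b), hwb, ?_⟩
        have : s(w, b) ≠ s(a, w) := fun hxy => by
          rcases Sym2.eq_iff.mp hxy with ⟨h', -⟩ | ⟨-, h'⟩
          · exact ha h'.symm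
          · exact hne h'.symm
        simp only [g, if_neg this, Sym2.map_pair_eq, fix hb]
        simp [f]
      · refine ⟨s(a, w), hwa.symm, ?_⟩
        have : s(a, w) ≠ s(b, w) := fun hxy => by
          rcases Sym2.eq_iff.mp hxy with ⟨h', -⟩ | ⟨h', -⟩
          · exact hne h'
          · exact ha h'
        simp only [g, if_neg this, Sym2.map_pair_eq, fix ha]
        simp [f]
  rw [Nat.card_coe_set_eq, Nat.card_coe_set_eq]
  exact (Set.ncard_le_ncard hsub).trans (Set.ncard_image_le G.edgeSet.toFinite)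

theorem contract_moved {G : SimpleGraph (Fin n)} {u w : Fin n} :
    contract (moved G u w) u w = contract G u w := by
  ext ⟨a, ha⟩ ⟨b, hb⟩
  simp only [contract, fromRel_adj, moved_adj, ne_eq, Subtype.mk.injEq, ha, hb, false_and, and_false,
    not_false_eq_true, true_and, or_false, false_or, not_true_eq_false]
  rw [G.adj_comm b a]
  constructor
  · rintro ⟨hne, hh⟩
    refine ⟨hne, ?_⟩
    rcases hh with (⟨-, hh⟩ | ⟨rfl, -, hh⟩) | ⟨-, hh⟩ | ⟨rfl, -, hh⟩
    all_goals simp_all
    all_goals tauto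
  · rintro ⟨hne, hh⟩
    refine ⟨hne, ?_⟩
    tauto

/-- The tree obtained by the move. -/
def movedTree (T : MarkedTree k) {u w : Fin T.n} (h : T.graph.Adj u w) : MarkedTree k :=
  ⟨T.n, moved T.graph u w, moved_isTree T.isTree h, fun i => if T.mark i = w then u else T.mark i⟩

theorem conicAdj_movedTree (T : MarkedTree k) {u w : Fin T.n} (h : T.graph.Adj u w) :
    ConicAdj T (movedTree T h) ∧ ConicAdj (movedTree T h) T := by
  have h' : (movedTree T h).graph.Adj u w := moved_adj.mpr ⟨h.ne, Or.inl (Or.inr ⟨rfl, rfl⟩)⟩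
  have hm : ∀ i, contractMark (movedTree T h).mark u w h'.ne i = contractMark T.mark u w h.ne i := by
    intro i
    apply Subtype.ext
    simp only [contractMark, movedTree]
    by_cases hi : T.mark i = w <;> simp [hi, h.ne]
  refine ⟨⟨u, w, u, w, h, h', ⟨Equiv.refl _, ?_⟩, rfl, fun i => (hm i).symm⟩,
    ⟨u, w, u, w, h', h, ⟨Equiv.refl _, ?_⟩, rfl, fun i => hm i⟩⟩
  · intro a b; exact (SimpleGraph.ext_iff.mp contract_moved).symm ▸ Iff.rfl
  · intro a b; exact (SimpleGraph.ext_iff.mp contract_moved).symm ▸ Iff.rfl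

theorem conicAdj_of_iso (T₁ T₂ : MarkedTree k) (σ : T₁.graph ≃g T₂.graph)
    (hσ : ∀ i, σ (T₁.mark i) = T₂.mark i) {u w : Fin T₁.n} (h : T₁.graph.Adj u w) :
    ConicAdj T₁ T₂ := by
  have h₂ : T₂.graph.Adj (σ u) (σ w) := σ.map_adj_iff.mpr h
  refine ⟨u, w, σ u, σ w, h, h₂,
    ⟨σ.toEquiv.subtypeEquiv fun a => (σ.toEquiv.apply_eq_iff_eq).not.symm, ?_⟩, rfl, fun i => ?_⟩
  · intro a b
    simp only [contract, fromRel_adj, Equiv.subtypeEquiv_apply, ne_eq, Subtype.ext_iff,
      RelIso.coe_fn_toEquiv, σ.map_adj_iff, σ.injective.eq_iff]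
  · apply Subtype.ext
    simp only [contractMark, ← hσ, σ.injective.eq_iff]
    by_cases hi : T₁.mark i = w <;> simp [hi]

/-- The star with all marks at the centre. -/
def IsStar (T : MarkedTree k) (c : Fin T.n) : Prop :=
  (∀ a b, T.graph.Adj a b ↔ a ≠ b ∧ (a = c ∨ b = c)) ∧ ∀ i, T.mark i = c

theorem star_iso {T₁ T₂ : MarkedTree k} {c₁ : Fin T₁.n} {c₂ : Fin T₂.n} (hn : T₁.n = T₂.n)
    (h₁ : IsStar T₁ c₁) (h₂ : IsStar T₂ c₂) :
    ∃ σ : T₁.graph ≃g T₂.graph, ∀ i, σ (T₁.mark i) = T₂.mark i := by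
  let e : Fin T₁.n ≃ Fin T₂.n := (finCongr hn).trans (Equiv.swap (finCongr hn c₁) c₂)
  have hc : e c₁ = c₂ := by simp [e]
  refine ⟨⟨e, fun {a b} => ?_⟩, fun i => ?_⟩
  · rw [h₁.1, h₂.1, ← hc, e.injective.eq_iff, e.injective.eq_iff, e.injective.ne_iff]
  · rw [h₁.2, h₂.2]; exact hc

variable {T : MarkedTree k}

theorem exists_path2_or_star (T : MarkedTree k) (c : Fin T.n) :
    (∃ x y, T.graph.Adj c x ∧ T.graph.Adj x y ∧ y ≠ c) ∨
      ∀ a b, T.graph.Adj a b ↔ a ≠ b ∧ (a = c ∨ b = c) := by
  by_cases hx : ∃ x y, T.graph.Adj c x ∧ T.graph.Adj x y ∧ y ≠ c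
  · exact Or.inl hx
  push Not at hx
  have hnear : ∀ v, v = c ∨ T.graph.Adj c v := by
    intro v
    obtain ⟨p⟩ := T.isTree.connected v c
    induction p with
    | nil => exact Or.inl rfl
    | @cons x y z hxy _ ih =>
      rcases ih hx with rfl | hy
      · exact Or.inr hxy.symm
      · exact Or.inl (hx y x hy hxy.symm)
  refine Or.inr fun a b => ⟨fun hab => ⟨hab.ne, ?_⟩, ?_⟩
  · rcases hnear a with rfl | ha
    · exact Or.inl rfl
    · exact Or.inr (hx a b ha hab)
  · rintro ⟨hne, rfl | rfl⟩
    · exact ((hnear b).resolve_left hne.symm)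
    · exact ((hnear a).resolve_left hne).symm

theorem exists_star (T : MarkedTree k) (c : Fin T.n) :
    ∃ (T' : MarkedTree k) (c' : Fin T'.n), T'.n = T.n ∧ IsStar T' c' ∧
      Relation.ReflTransGen ConicAdj T T' ∧ Relation.ReflTransGen ConicAdj T' T := by
  classical
  obtain ⟨m, hm⟩ : ∃ m, T.n ≤ m + (T.graph.neighborSet c).ncard := ⟨T.n, Nat.le_add_right _ _⟩
  induction m generalizing T c with
  | zero =>
    exfalso
    have : (T.graph.neighborSet c).ncard < T.n := by
      have h1 := Set.ncard_lt_card (s := T.graph.neighborSet c) fun h => by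
        exact T.graph.loopless.irrefl c (h ▸ Set.mem_univ c : c ∈ T.graph.neighborSet c)
      rwa [Nat.card_fin] at h1
    omega
  | succ m ih =>
    rcases exists_path2_or_star T c with ⟨x, y, hcx, hxy, hyc⟩ | hstar
    · have hm' := conicAdj_movedTree T hcx
      have hdeg : (T.graph.neighborSet c).ncard < ((moved T.graph c x).neighborSet c).ncard := by
        refine Set.ncard_lt_ncard ⟨fun v hv => ?_, fun hsub => ?_⟩ (Set.toFinite _)
        · rw [mem_neighborSet] at hv ⊢
          refine moved_adj.mpr ⟨hv.ne, ?_⟩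
          by_cases hvx : v = x
          · exact Or.inl (Or.inr ⟨hvx, rfl⟩)
          · exact Or.inr ⟨hcx.ne, hvx, Or.inl hv⟩
        · have hy : y ∈ (moved T.graph c x).neighborSet c := by
            rw [mem_neighborSet]
            exact moved_adj.mpr ⟨hyc.symm, Or.inr ⟨hcx.ne, hxy.ne.symm, Or.inr (Or.inl ⟨rfl, hxy⟩)⟩⟩
          have this : T.graph.Adj c y := hsub hy
          -- a triangle `c x y` in a tree
          have h₁ := T.isTree.isAcyclic (Walk.cons hcx (Walk.cons hxy (Walk.cons this.symm Walk.nil)))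
          refine h₁ ?_
          simp [Walk.isCycle_def, Walk.isTrail_def, hcx.ne, hcx.ne', hxy.ne, hxy.ne', hyc, hyc.symm]
      obtain ⟨T', c', hn, hs, h1, h2⟩ := ih (movedTree T hcx) c (by
        change T.n ≤ m + ((moved T.graph c x).neighborSet c).ncard
        omega)
      exact ⟨T', c', hn, hs, h1.head hm'.1, h2.tail hm'.2⟩
    · -- move the marks to the centre one leaf at a time
      clear hm ih
      obtain ⟨m', hm'⟩ : ∃ m', (Finset.univ.filter fun i => T.mark i ≠ c).card ≤ m' := ⟨_, le_rfl⟩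
      induction m' generalizing T with
      | zero =>
        refine ⟨T, c, rfl, ⟨hstar, fun i => ?_⟩, .refl, .refl⟩
        by_contra hi
        have : i ∈ Finset.univ.filter fun i => T.mark i ≠ c := by simp [hi]
        rw [Finset.card_eq_zero.mp (Nat.le_zero.mp hm')] at this
        simp at this
      | succ m' ih =>
        by_cases hall : ∀ i, T.mark i = c
        · exact ⟨T, c, rfl, ⟨hstar, hall⟩, .refl, .refl⟩
        push Not at hall
        obtain ⟨i, hi⟩ := hall
        have hadj : T.graph.Adj c (T.mark i) := (hstar _ _).mpr ⟨Ne.symm hi, Or.inl rfl⟩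
        have hm2 := conicAdj_movedTree T hadj
        obtain ⟨T', c', hn, hs, h1, h2⟩ := ih (movedTree T hadj) c (fun a b => by
            simp only [movedTree, moved_adj, hstar]
            grind) (by
            have : (Finset.univ.filter fun j => (movedTree T hadj).mark j ≠ c).card <
                (Finset.univ.filter fun j => T.mark j ≠ c).card := by
              refine Finset.card_lt_card ⟨fun j hj => ?_, fun hsub => ?_⟩
              · simp only [movedTree, Finset.mem_filter, Finset.mem_univ, true_and] at hj ⊢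
                intro h'
                rw [h'] at hj
                simp at hj
              · have := hsub (x := i) (by simp [hi])
                simp [movedTree] at this
            omega)
        exact ⟨T', c', hn, hs, h1.head hm2.1, h2.tail hm2.2⟩

theorem reflTransGen_of_card_eq (T₁ T₂ : MarkedTree k) (h : T₁.n = T₂.n) :
    Relation.ReflTransGen ConicAdj T₁ T₂ := by
  obtain ⟨c₁⟩ := T₁.isTree.connected.nonempty
  obtain ⟨S₁, d₁, hn₁, hs₁, h11, -⟩ := exists_star T₁ c₁
  obtain ⟨S₂, d₂, hn₂, hs₂, -, h22⟩ := exists_star T₂ (finCongr h c₁)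
  have hn : S₁.n = S₂.n := by omega
  refine h11.trans (Relation.ReflTransGen.trans ?_ h22)
  by_cases h1 : S₁.n = 1
  · rcases S₁ with ⟨n₁, G₁, hT₁, m₁⟩
    rcases S₂ with ⟨n₂, G₂, hT₂, m₂⟩
    simp only at h1 hn
    subst h1 hn
    have : G₁ = G₂ := by
      ext a b
      simp [Subsingleton.elim a b]
    subst this
    rw [show m₁ = m₂ from funext fun i => Subsingleton.elim _ _]
  · have : ∃ b : Fin S₁.n, b ≠ d₁ := by
      have : Nontrivial (Fin S₁.n) := Fin.nontrivial_iff_two_le.mpr (by have := d₁.pos; omega)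
      exact exists_ne d₁
    obtain ⟨b, hb⟩ := this
    obtain ⟨σ, hσ⟩ := star_iso hn hs₁ hs₂
    exact .single (conicAdj_of_iso S₁ S₂ σ hσ ((hs₁.1 d₁ b).mpr ⟨hb.symm, Or.inl rfl⟩))

end Groth.Agent.RatCurvX
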